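import Mathlib
import Groth.Agent.CAlgReg.GlobalDim
import Groth.Agent.CAlgReg.Serre

/-!
# Duals of finite modules over regular rings of dimension at most two are projective
-/

set_option autoImplicit false

universe u

open scoped TensorProduct

namespace Groth.Agent.RegCorep

open Groth.Agent.CAlgReg

theorem projective_dual {R : Type u} [CommRing R] [IsRegularRing R] (hdim : ringKrullDim R ≤ 2)
    (N : Type u) [AddCommGroup N] [Module R N] [Module.Finite R N] :
    Module.Projective R (Module.Dual R N) := by
  obtain ⟨b, g, hg⟩ := Module.Finite.exists_fin' R N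
  have hK : (LinearMap.ker g).FG := IsNoetherian.noetherian _
  have : Module.Finite R (LinearMap.ker g) := Module.Finite.iff_fg.2 hK
  obtain ⟨a, k, hk⟩ := Module.Finite.exists_fin' R (LinearMap.ker g)
  let h := (LinearMap.ker g).subtype ∘ₗ k
  let hd : Module.Dual R (Fin b → R) →ₗ[R] Module.Dual R (Fin a → R) := h.dualMap
  let gd : Module.Dual R N →ₗ[R] Module.Dual R (Fin b → R) := g.dualMap
  have hgd : Function.Injective gd := LinearMap.dualMap_injective_of_surjective hg
  have hex : Function.Exact gd hd := by
    intro φ
    refine ⟨fun hφ => ?_, ?_⟩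
    · have hker : LinearMap.ker g ≤ LinearMap.ker φ := fun x hx => by
        obtain ⟨y, hy⟩ := hk ⟨x, hx⟩
        have h1 := LinearMap.congr_fun hφ y
        simp only [hd, h, LinearMap.dualMap_apply, LinearMap.comp_apply, hy] at h1
        exact h1
      refine ⟨(Submodule.liftQ _ φ hker).comp (g.quotKerEquivOfSurjective hg).symm.toLinearMap, ?_⟩
      refine LinearMap.ext fun x => ?_
      have h2 : (g.quotKerEquivOfSurjective hg).symm (g x) = Submodule.Quotient.mk x := by
        rw [LinearEquiv.symm_apply_eq]; rfl
      simp [gd, h2]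
    · rintro ⟨ψ, rfl⟩
      refine LinearMap.ext fun x => ?_
      show ψ (g ((k x : Fin b → R))) = 0
      rw [LinearMap.mem_ker.1 (k x).2, map_zero]
  have : IsNoetherianRing R := inferInstance
  have : Module.Finite R (Module.Dual R N) := Module.Finite.of_injective gd hgd
  have : Module.FinitePresentation R (Module.Dual R N) := Module.finitePresentation_of_finite R _
  let I := LinearMap.range hd
  let C := Module.Dual R (Fin a → R) ⧸ I
  refine Module.projective_of_localization_maximal' (fun P _ => Localization.AtPrime P)
    (fun P _ => Localization.AtPrime P ⊗[R] Module.Dual R N)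
    (fun P _ => TensorProduct.mk R (Localization.AtPrime P) (Module.Dual R N) 1) fun P hP => ?_
  let S := Localization.AtPrime P
  have : IsRegularLocalRing S := IsRegularRing.isRegularLocalRing_localization P
  have : Module.Flat R S := IsLocalization.flat S P.primeCompl
  obtain ⟨d, hd2, hdS⟩ : ∃ d : ℕ, d ≤ 2 ∧ ringKrullDim S = d := by
    have h1 := IsLocalization.AtPrime.ringKrullDim_eq_height P S
    have h2 : (P.height : WithBot ℕ∞) ≤ 2 := (Ideal.height_le_ringKrullDim_of_ne_top hP.ne_top).trans hdim
    have h3 : P.height ≤ 2 := WithBot.coe_le_coe.1 h2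
    lift P.height to ℕ using (ne_top_of_le_ne_top (by simp) h3) with d hd'
    exact ⟨d, by exact_mod_cast h3, h1⟩
  let q : Module.Dual R (Fin b → R) →ₗ[R] I := LinearMap.rangeRestrict hd
  have hq : Function.Exact gd q := fun φ => by
    rw [← hex φ]; exact ⟨fun h => congrArg Subtype.val h, fun h => Subtype.ext h⟩
  have hqs : Function.Surjective q := LinearMap.surjective_rangeRestrict hd
  have s1 := baseChange_shortExact S (C := ↥I) gd q hgd hq hqs
  have s2 := baseChange_shortExact S (A := ↥I) I.subtype I.mkQ Subtype.val_injective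
    (LinearMap.exact_subtype_mkQ I) I.mkQ_surjective
  have hC : PdLT S (S ⊗[R] C) (1 + 2) := pdLT_mono (by omega) (pdLT_of_isRegularLocalRing hdS (S ⊗[R] C))
  have hI : PdLT S (S ⊗[R] I) (0 + 2) := pdLT_left _ _ s2.1 s2.2.1 s2.2.2 hC
  exact projective_of_pdLT_one (pdLT_left _ _ s1.1 s1.2.1 s1.2.2 hI)

end Groth.Agent.RegCorep
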