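import Mathlib
import Groth.Agent.RegCorep.Dual

/-!
# Matrix corepresentations containing finitely many given elements
-/

set_option autoImplicit false

universe u

open scoped TensorProduct
open Coalgebra

namespace Groth.Agent.RegCorep

variable {R : Type u} [CommRing R] {A : Type u} [CommRing A] [HopfAlgebra R A]

/-- A finite set lies in a finite submodule `N` with `Δ N ⊆ N ⊗ A`. -/
theorem exists_finite_stable [IsNoetherianRing R] [Module.Flat R A] (F : Finset A) :
    ∃ (N : Submodule R A) (ρ : N →ₗ[R] N ⊗[R] A), Module.Finite R N ∧ (F : Set A) ⊆ N ∧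
      ∀ n : N, N.subtype.rTensor A (ρ n) = comul (R := R) (n : A) := by
  classical
  let N₀ : Submodule R A := Submodule.span R ((F.biUnion fun f => (ℛ R f).index.image (ℛ R f).left : Finset A) : Set A)
  let q : A →ₗ[R] (A ⧸ N₀) ⊗[R] A := N₀.mkQ.rTensor A ∘ₗ comul
  let N := LinearMap.ker q
  have hN0 : N ≤ N₀ := fun x hx => by
    have h1 : (TensorProduct.rid R (A ⧸ N₀)).toLinearMap ((counit (R := R)).lTensor (A ⧸ N₀) (q x)) = N₀.mkQ x := by
      simp only [q, LinearMap.comp_apply]
      rw [← LinearMap.comp_apply (LinearMap.lTensor _ _), LinearMap.lTensor_comp_rTensor, ← LinearMap.rTensor_comp_lTensor,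
        LinearMap.comp_apply, Coalgebra.lTensor_counit_comul]
      simp
    rw [LinearMap.mem_ker.1 hx, map_zero, map_zero] at h1
    exact (Submodule.Quotient.mk_eq_zero _).1 h1.symm
  have hfin : Module.Finite R N := by
    have : Module.Finite R N₀ := Module.Finite.iff_fg.2 (Submodule.fg_span (Finset.finite_toSet _))
    exact Module.Finite.of_injective (Submodule.inclusion hN0) (Submodule.inclusion_injective _)
  have hinj : Function.Injective (N.subtype.rTensor A) :=
    Module.Flat.rTensor_preserves_injective_linearMap _ N.subtype_injective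
  have hmem : ∀ n : N, comul (R := R) (n : A) ∈ LinearMap.range (N.subtype.rTensor A) := fun n => by
    rw [← LinearMap.exact_iff.1 (Module.Flat.rTensor_exact A (LinearMap.exact_subtype_ker_map q)), LinearMap.mem_ker]
    let sw : (A ⧸ N₀) ⊗[R] (A ⊗[R] A) →ₗ[R] ((A ⧸ N₀) ⊗[R] A) ⊗[R] A := (TensorProduct.assoc R _ _ _).symm.toLinearMap
    have h1 : ∀ z : A ⊗[R] A, q.rTensor A z = sw (TensorProduct.assoc R (A ⧸ N₀) A A
        ((N₀.mkQ.rTensor A).rTensor A ((comul (R := R)).rTensor A z))) := fun z => by
      simp only [q, sw, LinearMap.rTensor_comp, LinearMap.comp_apply, LinearEquiv.coe_coe, LinearEquiv.symm_apply_apply]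
    have h2 : ∀ z : (A ⊗[R] A) ⊗[R] A, TensorProduct.assoc R (A ⧸ N₀) A A ((N₀.mkQ.rTensor A).rTensor A z) =
        N₀.mkQ.rTensor (A ⊗[R] A) (TensorProduct.assoc R A A A z) := fun z => by
      induction z using TensorProduct.induction_on with
      | zero => simp
      | add u v hu hv => simp only [map_add, hu, hv]
      | tmul y c =>
        induction y using TensorProduct.induction_on with
        | zero => simp
        | add u v hu hv => simp only [TensorProduct.add_tmul, map_add, hu, hv]
        | tmul a b => simp
    rw [h1, h2, Coalgebra.coassoc_apply]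
    have h3 : ∀ z : A ⊗[R] A, N₀.mkQ.rTensor (A ⊗[R] A) ((comul (R := R)).lTensor A z) =
        (comul (R := R)).lTensor (A ⧸ N₀) (N₀.mkQ.rTensor A z) := fun z => by
      rw [← LinearMap.comp_apply, LinearMap.rTensor_comp_lTensor, ← LinearMap.lTensor_comp_rTensor]; rfl
    rw [h3, show N₀.mkQ.rTensor A (comul (R := R) (n : A)) = 0 from LinearMap.mem_ker.1 n.2, map_zero, map_zero]
  let e := LinearEquiv.ofInjective (N.subtype.rTensor A) hinj
  refine ⟨N, e.symm.toLinearMap ∘ₗ ((comul (R := R)).comp N.subtype).codRestrict _ hmem, hfin, fun f hf => ?_,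
    fun n => ?_⟩
  · show q f = 0
    rw [LinearMap.comp_apply, ← (ℛ R f).eq, map_sum]
    refine Finset.sum_eq_zero fun i hi => ?_
    rw [LinearMap.rTensor_tmul, Submodule.mkQ_apply, (Submodule.Quotient.mk_eq_zero N₀).2, TensorProduct.zero_tmul]
    exact Submodule.subset_span (Finset.mem_biUnion.2 ⟨f, hf, Finset.mem_image.2 ⟨i, hi, rfl⟩⟩)
  · exact congrArg Subtype.val (e.apply_symm_apply ⟨_, hmem n⟩)

variable (N : Submodule R A) (ρ : N →ₗ[R] N ⊗[R] A)

/-- The coefficient of a functional. -/
noncomputable def coef (φ : Module.Dual R N) : N →ₗ[R] A :=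
  (TensorProduct.lid R A).toLinearMap ∘ₗ φ.rTensor A ∘ₗ ρ

theorem coef_add (φ ψ : Module.Dual R N) : coef N ρ (φ + ψ) = coef N ρ φ + coef N ρ ψ := by
  simp [coef, LinearMap.rTensor_add, LinearMap.add_comp, LinearMap.comp_add]

theorem coef_smul (r : R) (φ : Module.Dual R N) : coef N ρ (r • φ) = r • coef N ρ φ := by
  simp [coef, LinearMap.rTensor_smul, LinearMap.smul_comp, LinearMap.comp_smul]

/-- Matrix corepresentation containing `F`. -/
theorem exists_matrix [IsRegularRing R] (hdim : ringKrullDim R ≤ 2) [Module.Flat R A] (F : Finset A) :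
    ∃ (d : ℕ) (a : Matrix (Fin d) (Fin d) A),
      (∀ i j, comul (R := R) (a i j) = ∑ l, a i l ⊗ₜ[R] a l j) ∧
      (∀ i j, counit (R := R) (a i j) = if i = j then 1 else 0) ∧
      ∃ u : A, u * a.det = 1 ∧ (↑F : Set A) ⊆ Algebra.adjoin R (Set.range (fun p : Fin d × Fin d => a p.1 p.2) ∪ {u}) := by
  classical
  obtain ⟨N, ρ, hfin, hF, hρ⟩ := exists_finite_stable (R := R) F
  have : Module.FinitePresentation R N := Module.finitePresentation_of_finite R N
  have hP : Module.Projective R (Module.Dual R N) := projective_dual hdim N
  have : Module.Finite R (Module.Dual R N) := by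
    obtain ⟨b, g, hg⟩ := Module.Finite.exists_fin' R N
    exact Module.Finite.of_injective g.dualMap (LinearMap.dualMap_injective_of_surjective hg)
  obtain ⟨d, s, hs⟩ := Module.Finite.exists_fin' R (Module.Dual R N)
  obtain ⟨r, hr⟩ := Module.projective_lifting_property s LinearMap.id hs
  have hsr : ∀ φ, s (r φ) = φ := fun φ => LinearMap.congr_fun hr φ
  let p : Fin d → Module.Dual R N := fun l => s (Pi.single l 1)
  let Q : Fin d → Fin d → R := fun l k => r (p k) l
  have hexp : ∀ φ : Module.Dual R N, φ = ∑ l, r φ l • p l := fun φ => by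
    conv_lhs => rw [← hsr φ, pi_eq_sum_univ' (r φ), map_sum]
    simp only [map_smul, p]
  have hQp : ∀ k, ∑ l, Q l k • p l = p k := fun k => (hexp (p k)).symm
  -- uniqueness of coordinates
  obtain ⟨m, g, hg⟩ := Module.Finite.exists_fin' R N
  have key : ∀ {X : Type u} [AddCommGroup X] [Module R X], Module.Flat R X → ∀ Y : Fin d → X,
      (∀ n : N, ∑ k, p k n • Y k = 0) → ∀ l, ∑ k, Q l k • Y k = 0 := by
    intro X _ _ hX Y hY l
    have h0 : g.dualMap.rTensor X (∑ k, p k ⊗ₜ[R] Y k) = 0 := by
      apply ((TensorProduct.congr (Module.piEquiv (Fin m) R R).symm (LinearEquiv.refl R X)).trans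
        ((TensorProduct.comm R _ X).trans (TensorProduct.piScalarRight R R X (Fin m)))).injective
      rw [map_sum, map_sum, map_zero]
      ext i
      simp only [LinearEquiv.trans_apply, LinearMap.rTensor_tmul, TensorProduct.congr_tmul, TensorProduct.comm_tmul,
        Finset.sum_apply, TensorProduct.piScalarRight_apply, TensorProduct.piScalarRightHom_tmul, Pi.zero_apply,
        LinearEquiv.refl_apply, LinearMap.dualMap_apply]
      exact hY _
    have h1 : ∑ k, p k ⊗ₜ[R] Y k = 0 :=
      Module.Flat.rTensor_preserves_injective_linearMap _ (LinearMap.dualMap_injective_of_surjective hg)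
        (h0.trans (map_zero _).symm)
    have h2 := congrArg (TensorProduct.lid R X ∘ ((LinearMap.proj l).comp r).rTensor X) h1
    simpa [map_sum, Q] using h2
  -- coordinates of the coefficients
  have hX : ∀ i, ∃ B : Fin d → A, (∀ n, coef N ρ (p i) n = ∑ l, p l n • B l) ∧ ∀ l, ∑ k, Q l k • B k = B l := by
    intro i
    obtain ⟨k, h2, h3, h23⟩ := Module.Flat.exists_factorization_of_finitePresentation (coef N ρ (p i))
    let h : Fin k → Module.Dual R N := fun j => (Finsupp.lapply j).comp h2
    let X : Fin d → A := fun l => ∑ j, r (h j) l • h3 (Finsupp.single j 1)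
    have hXn : ∀ n, coef N ρ (p i) n = ∑ l, p l n • X l := fun n => by
      rw [h23, LinearMap.comp_apply]
      conv_lhs => rw [← Finsupp.univ_sum_single (h2 n), map_sum]
      simp only [X, Finset.smul_sum, smul_smul]
      rw [Finset.sum_comm]
      refine Finset.sum_congr rfl fun j _ => ?_
      rw [← Finset.sum_smul, show Finsupp.single j (h2 n j) = h2 n j • Finsupp.single j (1 : R) by simp, map_smul]
      congr 1
      calc h2 n j = h j n := rfl
        _ = ∑ l, p l n * r (h j) l := by
          conv_lhs => rw [hexp (h j)]
          simp [LinearMap.sum_apply, mul_comm]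
    refine ⟨fun l => ∑ k, Q l k • X k, fun n => ?_, fun l => ?_⟩
    · rw [hXn]
      simp only [Finset.smul_sum, smul_smul]
      rw [Finset.sum_comm]
      refine Finset.sum_congr rfl fun k _ => ?_
      rw [← Finset.sum_smul]
      congr 1
      conv_lhs => rw [← hQp k]
      simp [LinearMap.sum_apply, mul_comm]
    · simp only [Finset.smul_sum, smul_smul]
      rw [Finset.sum_comm]
      refine Finset.sum_congr rfl fun k _ => ?_
      rw [← Finset.sum_smul]
      congr 1
      have := congrArg (fun φ => r φ l) (hQp k)
      simpa [map_sum, Q, mul_comm] using this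
  choose B hB hQB using hX
  have hlin : ∀ i l, ∑ k, Q k i • B k l = B i l := by
    intro i l
    have h0 := key (X := A) inferInstance (fun l' => (∑ k, Q k i • B k l') - B i l') (fun n => ?_) l
    · simp only [smul_sub, Finset.sum_sub_distrib] at h0
      rw [hQB, sub_eq_zero, Finset.sum_congr rfl fun _ _ => Finset.smul_sum, Finset.sum_comm] at h0
      refine Eq.trans (Finset.sum_congr rfl fun k _ => ?_) h0
      conv_lhs => rw [← hQB k l, Finset.smul_sum]
      exact Finset.sum_congr rfl fun j _ => smul_comm _ _ _
    · simp only [smul_sub, Finset.sum_sub_distrib, Finset.smul_sum, sub_eq_zero]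
      rw [Finset.sum_comm, ← hB]
      conv_rhs => rw [← hQp i]
      have hc : ∀ (t : Finset (Fin d)), coef N ρ (∑ l, if l ∈ t then Q l i • p l else 0) n =
          ∑ l, if l ∈ t then Q l i • coef N ρ (p l) n else 0 := fun t => by
        let L : Module.Dual R N →ₗ[R] A :=
          ⟨⟨fun φ => coef N ρ φ n, fun a b => by simp [coef_add]⟩, fun a b => by simp [coef_smul]⟩
        show L _ = _
        rw [map_sum]
        exact Finset.sum_congr rfl fun l _ => by split_ifs <;> simp [L, coef_smul, coef]
      have := hc Finset.univ
      simp only [Finset.mem_univ, if_true] at this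
      rw [this]
      refine Finset.sum_congr rfl fun k _ => ?_
      rw [hB, Finset.smul_sum]
      exact Finset.sum_congr rfl fun j _ => smul_comm _ _ _
  have hcounit : ∀ i j, counit (R := R) (B i j) = Q j i := by
    intro i j
    have h0 := key (X := R) inferInstance (fun l => counit (R := R) (B i l) - (Pi.single i 1 : Fin d → R) l) (fun n => ?_) j
    · simp only [smul_sub, Finset.sum_sub_distrib, sub_eq_zero] at h0
      have h1 := congrArg (counit (R := R)) (hQB i j)
      simp only [map_sum, map_smul] at h1
      rw [h1] at h0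
      rw [h0, Finset.sum_eq_single i (fun k _ hk => by simp [Pi.single_eq_of_ne hk]) (by simp)]
      simp
    · simp only [smul_sub, Finset.sum_sub_distrib, sub_eq_zero]
      rw [Finset.sum_eq_single i (f := fun x => p x n • (Pi.single i 1 : Fin d → R) x)
        (fun k _ hk => by simp [Pi.single_eq_of_ne hk]) (by simp), Pi.single_eq_same, smul_eq_mul, mul_one]
      have h1 := congrArg (counit (R := R)) (hB i n)
      simp only [map_sum, map_smul] at h1
      rw [← h1]
      have h2 : ∀ z : N ⊗[R] A, counit (R := R) ((TensorProduct.lid R A) ((p i).rTensor A z)) =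
          p i (TensorProduct.rid R N ((counit (R := R)).lTensor N z)) := fun z => by
        induction z using TensorProduct.induction_on with
        | zero => simp
        | add u v hu hv => simp only [map_add, hu, hv]
        | tmul x y => simp [mul_comm]
      refine (h2 (ρ n)).trans (congrArg (p i) (Subtype.ext ?_))
      have h3 : ∀ z : N ⊗[R] A, ((TensorProduct.rid R N ((counit (R := R)).lTensor N z) : N) : A) =
          TensorProduct.rid R A ((counit (R := R)).lTensor A (N.subtype.rTensor A z)) := fun z => by
        induction z using TensorProduct.induction_on with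
        | zero => simp
        | add u v hu hv => simp only [map_add, Submodule.coe_add, hu, hv]
        | tmul x y => simp
      rw [h3, hρ, Coalgebra.lTensor_counit_comul]
      simp
  have hcomul : ∀ i j, comul (R := R) (B i j) = ∑ l, B i l ⊗ₜ[R] B l j := by
    intro i j
    have h0 := key (X := A ⊗[R] A) inferInstance (fun k => comul (R := R) (B i k) - ∑ l, B i l ⊗ₜ[R] B l k) (fun n => ?_) j
    · simp only [smul_sub, Finset.sum_sub_distrib, sub_eq_zero] at h0
      have h1 := congrArg (comul (R := R)) (hQB i j)
      simp only [map_sum, map_smul] at h1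
      rw [h1] at h0
      rw [h0]
      simp only [Finset.smul_sum]
      rw [Finset.sum_comm]
      refine Finset.sum_congr rfl fun l _ => ?_
      rw [← hQB l j, TensorProduct.tmul_sum]
      exact Finset.sum_congr rfl fun k _ => (TensorProduct.tmul_smul _ _ _).symm
    · simp only [smul_sub, Finset.sum_sub_distrib, sub_eq_zero]
      have h1 := congrArg (comul (R := R)) (hB i n)
      simp only [map_sum, map_smul] at h1
      rw [← h1]
      -- evaluate via coassociativity
      let T : N ⊗[R] A →ₗ[R] A ⊗[R] A := (coef N ρ (p i)).rTensor A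
      have h2 : comul (R := R) (coef N ρ (p i) n) = T (ρ n) := by
        let E : (N ⊗[R] A) ⊗[R] A →ₗ[R] A ⊗[R] A := ((TensorProduct.lid R A).toLinearMap ∘ₗ (p i).rTensor A).rTensor A
        let D : N ⊗[R] A →ₗ[R] (N ⊗[R] A) ⊗[R] A := (TensorProduct.assoc R N A A).symm.toLinearMap ∘ₗ (comul (R := R)).lTensor N
        have e1 : ∀ z : N ⊗[R] A, comul (R := R) ((TensorProduct.lid R A) ((p i).rTensor A z)) = E (D z) := fun z => by
          induction z using TensorProduct.induction_on with
          | zero => simp
          | add u v hu hv => simp only [map_add, hu, hv]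
          | tmul x y =>
            simp only [D, LinearMap.comp_apply, LinearMap.lTensor_tmul, LinearMap.rTensor_tmul, TensorProduct.lid_tmul, map_smul]
            induction comul (R := R) y using TensorProduct.induction_on with
            | zero => simp
            | add u v hu hv => simp only [TensorProduct.tmul_add, map_add, smul_add, hu, hv]
            | tmul a b => simp [E, TensorProduct.smul_tmul']
        have e2 : D (ρ n) = ρ.rTensor A (ρ n) := by
          have hinj : Function.Injective ((N.subtype.rTensor A).rTensor A) :=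
            Module.Flat.rTensor_preserves_injective_linearMap _
              (Module.Flat.rTensor_preserves_injective_linearMap _ N.subtype_injective)
          apply hinj
          have e3 : ∀ z : N ⊗[R] A, (N.subtype.rTensor A).rTensor A (D z) =
              (TensorProduct.assoc R A A A).symm ((comul (R := R)).lTensor A (N.subtype.rTensor A z)) := fun z => by
            induction z using TensorProduct.induction_on with
            | zero => simp
            | add u v hu hv => simp only [map_add, hu, hv]
            | tmul x y =>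
              simp only [D, LinearMap.comp_apply, LinearMap.lTensor_tmul, LinearMap.rTensor_tmul]
              induction comul (R := R) y using TensorProduct.induction_on with
              | zero => simp
              | add u v hu hv => simp only [TensorProduct.tmul_add, map_add, hu, hv]
              | tmul a b => simp
          rw [e3, hρ, Coalgebra.coassoc_symm_apply, ← hρ, ← LinearMap.comp_apply, ← LinearMap.rTensor_comp,
            ← LinearMap.comp_apply ((N.subtype.rTensor A).rTensor A), ← LinearMap.rTensor_comp]
          congr 2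
          exact LinearMap.ext fun x => (hρ x).symm
        show comul (R := R) ((TensorProduct.lid R A) ((p i).rTensor A (ρ n))) = _
        rw [e1, e2, ← LinearMap.comp_apply, ← LinearMap.rTensor_comp]
        rfl
      rw [h2]
      simp only [Finset.smul_sum]
      rw [Finset.sum_comm]
      have h4 : ∀ z : N ⊗[R] A, T z = ∑ l, B i l ⊗ₜ[R] (TensorProduct.lid R A ((p l).rTensor A z)) := fun z => by
        induction z using TensorProduct.induction_on with
        | zero => simp
        | add u v hu hv => simp only [map_add, hu, hv, TensorProduct.tmul_add, Finset.sum_add_distrib]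
        | tmul x y =>
          simp only [T, LinearMap.rTensor_tmul, TensorProduct.lid_tmul, hB, TensorProduct.sum_tmul, TensorProduct.smul_tmul]
      rw [h4]
      refine Finset.sum_congr rfl fun l _ => ?_
      show B i l ⊗ₜ[R] coef N ρ (p l) n = _
      rw [hB, TensorProduct.tmul_sum]
      exact Finset.sum_congr rfl fun k _ => TensorProduct.tmul_smul _ _ _
  let K : Matrix (Fin d) (Fin d) A := Matrix.of fun i l => algebraMap R A ((if l = i then 1 else 0) - Q l i)
  have hKB : ∀ i j, ∑ l, ((if l = i then (1 : R) else 0) - Q l i) • B l j = 0 := fun i j => by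
    simp [sub_smul, Finset.sum_sub_distrib, hlin, ite_smul]
  have hBK : ∀ i j, ∑ l, ((if j = l then (1 : R) else 0) - Q j l) • B i l = 0 := fun i j => by
    simp [sub_smul, Finset.sum_sub_distrib, hQB, ite_smul]
  have hQQ : ∀ i j, ∑ l, Q j l * Q l i = Q j i := fun i j => by
    have := congrArg (fun φ => r φ j) (hQp i)
    simpa [map_sum, Q, mul_comm] using this
  have hKK : ∀ i j, ∑ l, ((if l = i then (1 : R) else 0) - Q l i) * ((if j = l then 1 else 0) - Q j l) =
      (if j = i then 1 else 0) - Q j i := fun i j => by
    simp [sub_mul, mul_sub, Finset.sum_sub_distrib, ite_mul, mul_ite]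
    have := hQQ i j
    rw [Finset.sum_congr rfl fun l _ => mul_comm (Q l i) (Q j l), this]
    exact sub_self _
  let a : Matrix (Fin d) (Fin d) A := Matrix.of fun i l => B i l + K i l
  have hΔ : ∀ i j, comul (R := R) (a i j) = ∑ l, a i l ⊗ₜ[R] a l j := by
    intro i j
    simp only [a, K, Matrix.of_apply, TensorProduct.add_tmul, TensorProduct.tmul_add, Finset.sum_add_distrib, map_add, hcomul]
    have t1 : ∑ l, B i l ⊗ₜ[R] algebraMap R A ((if j = l then 1 else 0) - Q j l) = 0 := by
      simp only [Algebra.algebraMap_eq_smul_one, TensorProduct.tmul_smul, TensorProduct.smul_tmul', ← TensorProduct.sum_tmul, hBK,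
        TensorProduct.zero_tmul]
    have t2 : ∑ l, algebraMap R A ((if l = i then 1 else 0) - Q l i) ⊗ₜ[R] B l j = 0 := by
      simp only [Algebra.algebraMap_eq_smul_one, TensorProduct.smul_tmul, ← TensorProduct.tmul_sum, hKB, TensorProduct.tmul_zero]
    have t3 : ∑ l, algebraMap R A ((if l = i then 1 else 0) - Q l i) ⊗ₜ[R] algebraMap R A ((if j = l then 1 else 0) - Q j l) =
        comul (R := R) (algebraMap R A ((if j = i then 1 else 0) - Q j i)) := by
      rw [Bialgebra.comul_algebraMap, ← hKK i j, map_sum]
      refine Finset.sum_congr rfl fun l _ => ?_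
      simp only [Algebra.algebraMap_eq_smul_one, TensorProduct.tmul_smul, TensorProduct.smul_tmul', smul_smul,
        Algebra.TensorProduct.one_def]
      rw [mul_comm]
    rw [t1, t2, t3, add_zero, zero_add]
  have hε : ∀ i j, counit (R := R) (a i j) = if i = j then 1 else 0 := by
    intro i j
    simp only [a, K, Matrix.of_apply, map_add, hcounit, Bialgebra.counit_algebraMap, Algebra.algebraMap_self_apply]
    rw [add_sub_cancel]
    by_cases hij : i = j <;> simp [hij, eq_comm]
  have hinv : (Matrix.of fun i l => HopfAlgebra.antipode R (a i l)) * a = 1 := by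
    ext i j
    have h := LinearMap.congr_fun (HopfAlgebra.mul_antipode_rTensor_comul (R := R) (A := A)) (a i j)
    simp only [LinearMap.comp_apply, hΔ, map_sum, LinearMap.rTensor_tmul, LinearMap.mul'_apply, hε,
      Algebra.linearMap_apply] at h
    rw [Matrix.mul_apply]
    simp only [Matrix.of_apply, h, Matrix.one_apply]
    split_ifs <;> simp
  refine ⟨d, a, hΔ, hε, (Matrix.of fun i l => HopfAlgebra.antipode R (a i l)).det,
    by rw [← Matrix.det_mul, hinv, Matrix.det_one], fun f hf => ?_⟩
  let φ : Module.Dual R N := (counit (R := R)).comp N.subtype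
  have hφ : coef N ρ φ ⟨f, hF hf⟩ = f := by
    have h : ∀ z : N ⊗[R] A, TensorProduct.lid R A (φ.rTensor A z) =
        TensorProduct.lid R A ((counit (R := R)).rTensor A (N.subtype.rTensor A z)) := fun z => by
      induction z using TensorProduct.induction_on with
      | zero => simp
      | add u v hu hv => simp only [map_add, hu, hv]
      | tmul x y => simp [φ]
    refine (h _).trans ?_
    rw [hρ, Coalgebra.rTensor_counit_comul]
    simp
  let L : Module.Dual R N →ₗ[R] A :=
    ⟨⟨fun φ => coef N ρ φ ⟨f, hF hf⟩, fun a b => by simp [coef_add]⟩, fun a b => by simp [coef_smul]⟩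
  rw [← hφ, show coef N ρ φ ⟨f, hF hf⟩ = L φ from rfl, hexp φ, map_sum]
  refine Subalgebra.sum_mem _ fun l _ => ?_
  rw [map_smul]
  refine Subalgebra.smul_mem _ ?_ _
  show coef N ρ (p l) _ ∈ _
  rw [hB]
  refine Subalgebra.sum_mem _ fun k _ => Subalgebra.smul_mem _ ?_ _
  rw [show B l k = a l k - algebraMap R A ((if k = l then 1 else 0) - Q k l) by simp [a, K]]
  exact sub_mem (Algebra.subset_adjoin (Or.inl ⟨(l, k), rfl⟩)) (Subalgebra.algebraMap_mem _ _)

end Groth.Agent.RegCorep
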